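import Cfsg.Agent.Lib.Chars82.ConstrainedBlock
import Cfsg.Agent.Lib.BrauerMap.PrincipalSection

/-!
# The principal block and the p'-core
-/

set_option autoImplicit false
set_option linter.unusedSectionVars false
set_option linter.style.haveILetI false

namespace Cfsg.Agent.Lib.PrincipalCore.Basic

open Cfsg.Agent.Lib.Characters Cfsg.Agent.Lib.Characters.Basic
open Cfsg.Agent.Lib.BrauerMap

universe u

variable {G : Type u} [Group G] [Finite G] {p : ℕ} [hp : Fact p.Prime] {M : Ideal Cfsg.AlgInt}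

theorem not_dvd_core : ¬ p ∣ Nat.card (Cfsg.pPrimeCore p G) :=
  hp.out.coprime_iff_not_dvd.mp (PSolvable.card_pPrimeCore_coprime (p := p) (G := G)).symm

theorem trivialOn_core (hM : Cfsg.IsPModular p M) {χ : Cfsg.IrrCharacter G}
    (hχ : χ ∈ Cfsg.principalBlock M G) :
    ∀ g ∈ Cfsg.pPrimeCore p G, (χ : G → ℂ) g = (χ : G → ℂ) 1 := by
  haveI := hM.2.1
  exact Inflation.blockOf_subset_trivialOn hM _ not_dvd_core
    (χ := oneChar G) (fun _ _ => rfl) hχ

theorem mem_iff_of_solvable (hM : Cfsg.IsPModular p M) (hs : Cfsg.IsPSolvable p G)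
    {χ : Cfsg.IrrCharacter G} :
    χ ∈ Cfsg.principalBlock M G ↔
      ∀ g ∈ Cfsg.pPrimeCore p G, (χ : G → ℂ) g = (χ : G → ℂ) 1 :=
  ⟨trivialOn_core hM, Chars82.ConstrainedBlock.mem_principalBlock_of_trivialOn hM hs⟩

theorem oneChar_mem (hM : Cfsg.IsPModular p M) : oneChar G ∈ Cfsg.principalBlock M G := by
  haveI := hM.2.1
  exact Blocks.sameBlock_refl (M := M) (oneChar G)

theorem eq_oneChar_of_const {χ : Cfsg.IrrCharacter G}
    (h : ∀ g, (χ : G → ℂ) g = (χ : G → ℂ) 1) : χ = oneChar G := by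
  haveI := Fintype.ofFinite G
  obtain ⟨n, hn, hn1⟩ := exists_degree_pos χ
  by_contra hne
  have h0 := classInner_irr_of_ne hne
  rw [Cfsg.classInner, Finset.sum_congr rfl (g := fun _ : G => (χ : G → ℂ) 1) fun g _ => by
    rw [h g, oneChar_apply, map_one, mul_one]] at h0
  rw [Finset.sum_const, nsmul_eq_mul, hn1] at h0
  have : (Nat.card G : ℂ) ≠ 0 := Nat.cast_ne_zero.mpr Nat.card_pos.ne'
  have hn' : (n : ℂ) ≠ 0 := Nat.cast_ne_zero.mpr hn.ne'
  have hF : ((Finset.univ : Finset G).card : ℂ) ≠ 0 :=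
    Nat.cast_ne_zero.mpr (Finset.card_ne_zero.mpr Finset.univ_nonempty)
  exact (mul_ne_zero (inv_ne_zero this) (mul_ne_zero hF hn')) h0

theorem blockHeight_eq (hM : Cfsg.IsPModular p M) (χ : G → ℂ) :
    Cfsg.blockHeight p (Cfsg.principalBlock M G) χ = (Cfsg.charDegree χ).factorization p := by
  have : sInf ((fun ψ : Cfsg.IrrCharacter G => (Cfsg.charDegree (ψ : G → ℂ)).factorization p) ''
      Cfsg.principalBlock M G) = 0 :=
    Nat.sInf_eq_zero.mpr (Or.inl ⟨oneChar G, oneChar_mem hM, by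
      simp [Cfsg.charDegree, oneChar_apply]⟩)
  rw [Cfsg.blockHeight, this, Nat.sub_zero]

end Cfsg.Agent.Lib.PrincipalCore.Basic
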