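import Cfsg.Agent.Lib.PrincipalCore.Basic
import Cfsg.Agent.Lib.BC78.Galois
import Cfsg.Agent.Lib.BC78.PowChar

/-!
# The principal block is stable under Galois conjugation
-/

set_option autoImplicit false
set_option linter.unusedSectionVars false
set_option linter.style.haveILetI false

namespace Cfsg.Agent.Lib.PrincipalCore.Rational

open Cfsg.Agent.Lib.Characters.Basic
open scoped ComplexConjugate

universe u

variable {G : Type u} [Group G] [Finite G] {p : ℕ} {M : Ideal Cfsg.AlgInt}

/-- The Galois conjugate of a character. -/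
noncomputable def powIrr {k : ℕ} (hk : k.Coprime (Nat.card G)) (χ : Cfsg.IrrCharacter G) :
    Cfsg.IrrCharacter G :=
  letI := Fintype.ofFinite G
  ⟨fun g => (χ : G → ℂ) (g ^ k), BC78.PowChar.isIrrCharacter_pow χ.2 hk⟩

theorem powIrr_apply {k : ℕ} (hk : k.Coprime (Nat.card G)) (χ : Cfsg.IrrCharacter G) (g : G) :
    (powIrr hk χ : G → ℂ) g = (χ : G → ℂ) (g ^ k) := rfl

theorem powIrr_injective {k : ℕ} (hk : k.Coprime (Nat.card G)) :
    Function.Injective (powIrr (G := G) hk) := fun a b h => Subtype.ext <| funext fun g => by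
  obtain ⟨y, rfl⟩ := (powCoprime (G := G) hk.symm).surjective g
  exact congrFun (congrArg Subtype.val h) y

theorem image_powIrr (hM : Cfsg.IsPModular p M) {k : ℕ} (hk : k.Coprime (Nat.card G)) :
    powIrr hk '' Cfsg.principalBlock M G = Cfsg.principalBlock M G := by
  haveI := hM.2.1
  haveI : Fact p.Prime := ⟨hM.1⟩
  set A := powIrr hk '' Cfsg.principalBlock M G with hA
  have hloc : ∀ g : G, Cfsg.MemLocalRing M (Cfsg.blockCoeff A g) := fun g => by
    have h : Cfsg.blockCoeff A g = Cfsg.blockCoeff (Cfsg.principalBlock M G) (g ^ k) := by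
      rw [Cfsg.blockCoeff, hA, finsum_mem_image (powIrr_injective hk).injOn, Cfsg.blockCoeff]
      simp only [powIrr_apply, one_pow]
    rw [h]
    exact Blocks.memLocalRing_blockCoeff Blocks.isPBlock_principalBlock _
  have h1 : oneChar G ∈ A := ⟨oneChar G, Basic.oneChar_mem hM, Subtype.ext rfl⟩
  have hle : Cfsg.principalBlock M G ⊆ A := Blocks.blockOf_subset_of_memLocalRing hloc h1
  exact (Set.eq_of_subset_of_ncard_le hle
    (by rw [hA, Set.ncard_image_of_injective _ (powIrr_injective hk)]) (Set.toFinite _)).symm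

/-- The norm square sum over the principal block is a rational integer. -/
theorem exists_int_normSq (hM : Cfsg.IsPModular p M) (x : G) :
    ∃ m : ℤ, ∑ᶠ χ ∈ Cfsg.principalBlock M G, Complex.normSq ((χ : G → ℂ) x) = (m : ℝ) := by
  classical
  set B := (Set.toFinite (Cfsg.principalBlock M G)).toFinset with hB
  set S : ℂ := ∑ χ ∈ B, (χ : G → ℂ) x * (χ : G → ℂ) x⁻¹ with hS
  have hi : ∀ (χ : Cfsg.IrrCharacter G) (g : G), IsIntegral ℤ ((χ : G → ℂ) g) :=
    fun χ g => isIntegral_apply (isCharacter_irr χ) g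
  have hint : IsIntegral ℤ S := IsIntegral.sum _ fun χ _ => (hi χ x).mul (hi χ x⁻¹)
  have hreal : ((∑ᶠ χ ∈ Cfsg.principalBlock M G, Complex.normSq ((χ : G → ℂ) x) : ℝ) : ℂ) = S := by
    rw [finsum_mem_eq_finite_toFinset_sum _ (Set.toFinite _), Complex.ofReal_sum]
    exact Finset.sum_congr rfl fun χ _ => by
      rw [apply_inv (isCharacter_irr χ), Complex.mul_conj]
  obtain ⟨m, hm⟩ := BC78.Galois.exists_int_of_fixed hint fun σ => by
    obtain ⟨k, hk, hσ⟩ := BC78.Galois.exists_exponent_char (G := G) σ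
    have hmem := fun (χ : Cfsg.IrrCharacter G) (g : G) =>
      BC78.Galois.mem_alg_of_isIntegral (hi χ g)
    have h1 : (⟨S, BC78.Galois.mem_alg_of_isIntegral hint⟩ : BC78.Galois.Alg) =
        ∑ χ ∈ B, (⟨_, hmem χ x⟩ : BC78.Galois.Alg) * ⟨_, hmem χ x⁻¹⟩ := by
      apply Subtype.ext
      push_cast
      rfl
    rw [h1, map_sum]
    push_cast
    simp only [map_mul, MulMemClass.coe_mul, hσ _ (isCharacter_irr _) _ (hmem _ _)]
    have himg : B.image (powIrr hk) = B := by
      apply Finset.coe_injective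
      rw [Finset.coe_image, hB, Set.Finite.coe_toFinset, image_powIrr hM hk]
    calc ∑ χ ∈ B, (χ : G → ℂ) (x ^ k) * (χ : G → ℂ) (x⁻¹ ^ k)
        = ∑ χ ∈ B.image (powIrr hk), (χ : G → ℂ) x * (χ : G → ℂ) x⁻¹ := by
          rw [Finset.sum_image (powIrr_injective hk).injOn]; rfl
      _ = S := by rw [himg]
  refine ⟨m, ?_⟩
  rw [← hm] at hreal
  exact_mod_cast hreal

end Cfsg.Agent.Lib.PrincipalCore.Rational
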